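import Cfsg.Agent.Omega.Close.Base
import Cfsg.Agent.Omega.Tools.SE

/-!
# OMEGA: the closings as one interface (4): control of a central involution (THEOREM SE)

`z` a central involution of the Sylow 2-subgroup `S`, `C_G(z) ≤ Y` and `z^G ∩ Y = z^Y`.

* `top_or_known` : `Y = G` or `G` is known (Bender's theorem);
* `known_of_bn2`, `known_of_bn3` : if `Y = N_G(X)` and `X` has a split BN-pair, resp. an irreducible BN-pair of
  rank at least 3, then `G` is known (no hypothesis `Full S`).
-/

set_option autoImplicit false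

namespace Cfsg.Agent.Omega.Close.Control

open Subgroup Cfsg Cfsg.Agent.ZN Cfsg.Agent.Omega.MinPar Cfsg.Agent.Omega.Frame
open Cfsg.Agent.Omega.Exits (St1143 St1144)
open Cfsg.Agent.Omega.Close.Base (BN2 BN3 known_of_eq_top)

universe u

variable {G : Type u} [Group G] [Finite G]

/-- `z` is a central involution of `S`, `Y` contains `C_G(z)` and controls the fusion of `z`. -/
structure Ctl (S : Subgroup G) (z : G) (Y : Subgroup G) : Prop where
  le : S ≤ centralizer ({z} : Set G)
  sq : z ^ 2 = 1
  ne : z ≠ 1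
  cen : centralizer ({z} : Set G) ≤ Y
  fus : ∀ g : G, g * z * g⁻¹ ∈ Y → ∃ y ∈ Y, g * z * g⁻¹ = y * z * y⁻¹

/-- **THEOREM SE + Bender**: `Y = G` or `G` is known. -/
theorem top_or_known (hB : Frame.Bender.{u}) (hG : Ctx G) (S : Sylow 2 G) {z : G} {Y : Subgroup G}
    (h : Ctl (S : Subgroup G) z Y) : Y = ⊤ ∨ IsKnownSimple' G := by
  have := hG.simple
  by_cases hY : Y = ⊤
  · exact Or.inl hY
  · exact Or.inr (known_of_stronglyEmbedded hB hG.nonComm
      (SE.strong hG.char2 S h.le h.sq h.ne hY h.cen h.fus))

theorem normal_or_known (hB : Frame.Bender.{u}) (hG : Ctx G) (S : Sylow 2 G) {z : G} {X : Subgroup G}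
    (hX : X ≠ ⊥) (h : Ctl (S : Subgroup G) z (normalizer (X : Set G))) : X = ⊤ ∨ IsKnownSimple' G := by
  have := hG.simple
  rcases top_or_known hB hG S h with h1 | h1
  · have h2 : X.Normal := normalizer_eq_top_iff.mp h1
    exact Or.inl (h2.eq_bot_or_eq_top.resolve_left hX)
  · exact Or.inr h1

/-- **Closing, rank two**: `N_G(X)` controls a central involution, `X` has a split BN-pair. -/
theorem known_of_bn2 (h44 : St1144.{u}) (hB : Frame.Bender.{u}) (hG : Ctx G) (S : Sylow 2 G) {z : G}
    {X : Subgroup G} (hX : BN2 X) (h : Ctl (S : Subgroup G) z (normalizer (X : Set G))) :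
    IsKnownSimple' G := by
  have := hG.simple
  rcases normal_or_known hB hG S hX.ne_bot h with h1 | h1
  · exact known_of_eq_top hG.nonComm h1 fun _ _ => hX.known h44
  · exact h1

/-- **Closing, rank at least three**: `N_G(X)` controls a central involution, `X` has an irreducible
BN-pair. -/
theorem known_of_bn3 (h43 : St1143.{u}) (hB : Frame.Bender.{u}) (hG : Ctx G) (S : Sylow 2 G) {z : G}
    {X : Subgroup G} (hX : BN3 X) (h : Ctl (S : Subgroup G) z (normalizer (X : Set G))) :
    IsKnownSimple' G := by
  have := hG.simple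
  rcases normal_or_known hB hG S hX.ne_bot h with h1 | h1
  · exact known_of_eq_top hG.nonComm h1 fun _ _ => hX.known h43
  · exact h1

end Cfsg.Agent.Omega.Close.Control
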