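import Cfsg.Agent.Omega.Close.Base
import Cfsg.Agent.Omega.CloseA.Final
import Cfsg.Agent.Omega.CloseA.Exc
import Cfsg.Agent.Omega.CloseA.CharTwo
import Cfsg.Agent.Omega.FFOne.Exit

/-!
# OMEGA: the closings as one interface (5): types `L₃(q)`, `Sp₄(q)`, `q ≥ 4`

`TL3` : the three quoted statements (S1169, S1171, S1296).
* `co3`, `co4` : from the coordinates `Co3`, `Co4` of `CloseA`;
* `nat_pair` : from the hypotheses of `FFOne.Mut.exit` (two natural modules).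
-/

set_option autoImplicit false

namespace Cfsg.Agent.Omega.Close.LThree

open Subgroup Cfsg Cfsg.Agent.Omega.Frame Cfsg.Agent.TypeL3 Cfsg.Agent.Omega.CloseA Cfsg.Agent.Omega.FFOne
open Cfsg.Agent.Omega.NatPair

universe u

/-- S1169, S1171 (first half), S1296: `ClassificationK.SmallLieTwoFinal.{h1169, h1171, h1296}`. -/
structure TL3 : Prop where
  h1169 : H1169.{u}
  h1171 : H1171.{u}
  h1296 : H1296.{u}

variable {G : Type u} [Group G] [Finite G]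

section

variable {F : Type*} [Field F] [Finite F] [CharP F 2]
  {Q₁ Q₂ D C₁ C₂ S0 : Subgroup G} {x y z z' : G → F}

/-- **Type `L₃(q)`**: `S = Q₁Q₂`, or `q = 4`. -/
theorem co3 (T : TL3.{u}) (hG : Frame.Ctx G) (hq : 4 ≤ Nat.card F) (h : Co3 Q₁ Q₂ D x y z) (S : Sylow 2 G)
    (c : CloseA.Ctx (S : Subgroup G) S0 D Q₁ Q₂) (hS : (S : Subgroup G) = Q₁ ⊔ Q₂ ∨ Nat.card F = 4) :
    IsKnownSimple' G := by
  have := hG.simple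
  rcases hS with hS | h4
  · exact h.known T.h1169 T.h1171 T.h1296 hq S hS
  · exact absurd (h.rank_four S c h4) hG.rank

/-- **Type `Sp₄(q)`**: `S = Q₁Q₂`. -/
theorem co4 (T : TL3.{u}) (hG : Frame.Ctx G) (hq : 4 ≤ Nat.card F) (h : Co4 Q₁ Q₂ D C₁ C₂ x y z z')
    (S : Sylow 2 G) (hS : (S : Subgroup G) = Q₁ ⊔ Q₂) : IsKnownSimple' G := by
  have := hG.simple
  exact h.known T.h1169 T.h1171 T.h1296 hq S hS

end

/-- **FF-1, case A**: two quadratic natural modules, `q ≥ 4`. -/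
theorem nat_pair (T : TL3.{u}) (hG : Frame.Ctx G) {P₁ P₂ Q₁ Q₂ V₁ V₂ D₁ D₂ : Subgroup G} {a : ℕ}
    {F₁ F₂ : Type} [Field F₁] [Finite F₁] [CharP F₁ 2] [Field F₂] [Finite F₂]
    {e₁ : G → Fin 2 → F₁} {w₁ : Fin 2 → F₁} {e₂ : G → Fin 2 → F₂} {w₂ : Fin 2 → F₂}
    {S : Sylow 2 G} (h : Mut P₁ P₂ S Q₁ Q₂ V₁ V₂ a)
    (hcen₁ : ∀ g : G, (∀ u ∈ Q₁, g * u = u * g) → g ∈ Q₁) (hcen₂ : ∀ g : G, (∀ u ∈ Q₂, g * u = u * g) → g ∈ Q₂)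
    (n₁ : NatTwo P₁ V₁ D₁ e₁) (q₁ : QuadOver V₁ V₂ e₁ w₁) (DV₁ : D₁ ≤ V₁) (Dn₁ : ∀ p ∈ P₁, ∀ d ∈ D₁, p * d * p⁻¹ ∈ D₁)
    (n₂ : NatTwo P₂ V₂ D₂ e₂) (q₂ : QuadOver V₂ V₁ e₂ w₂) (DV₂ : D₂ ≤ V₂) (Dn₂ : ∀ p ∈ P₂, ∀ d ∈ D₂, p * d * p⁻¹ ∈ D₂)
    (hF : 4 ≤ Nat.card F₁) : IsKnownSimple' G := by
  rcases h.exit hcen₁ hcen₂ n₁ q₁ DV₁ Dn₁ n₂ q₂ DV₂ Dn₂ (by omega) (CTs_of hG.char2 _ _) with
    ⟨X, Y, Z, h1, h2⟩ | ⟨X, Y, Z, Z', h1, h2⟩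
  · exact co3 T hG hF h1 S h.ctx h2
  · exact co4 T hG hF h1 S h2

end Cfsg.Agent.Omega.Close.LThree
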