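import Cfsg.Agent.Omega.ExitsThree
import Cfsg.Agent.Omega.Frame
import Cfsg.Agent.TSpIso.CharTwo
import Cfsg.Agent.Fischer480.AllPieces
import Cfsg.Agent.Fischer891.FinalSp
import Cfsg.Agent.Fischer891.FinalSym
import Cfsg.Agent.Fischer891.FinalO
import Cfsg.Agent.Fischer919.FinalU
import Cfsg.Agent.Fischer919.OmegaMain
import Cfsg.Agent.Fischer545.TEight

/-!
# The exit "3-transpositions" of the even half, without `Fi22`, `Fi23` (helper902; GAP-101)

`known`: a simple group of characteristic 2 type of order divisible by 32 with a class of 3-transpositions is known: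
the groups of types `T6`, `T7` are not of characteristic 2 type (`TSpIso.CharTwo`).
-/

set_option autoImplicit false

namespace Cfsg.Agent.Omega.Close.ThreeTrans

open Cfsg Subgroup

universe u

variable {G : Type u} [Group G]

/-- **Fischer's theorem for groups of characteristic 2 type.** -/
theorem list [Finite G] [IsSimpleGroup G] (hna : ∃ x y : G, x * y ≠ y * x) {D : Set G}
    (hD : Cfsg.IsThreeTranspositionClass D) (h2 : IsCharacteristicTwoType G) :
    (∃ n : ℕ, Nonempty (G ≃* Matrix.symplecticGroup (Fin n) (ZMod 2))) ∨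
      (∃ (F : Type) (_ : Field F) (_ : Fintype F) (n : ℕ), Fintype.card F = 4 ∧ Nonempty (G ≃* Cfsg.PSU n F 2)) ∨
      (∃ m : ℕ, Nonempty (G ≃* Cfsg.POmega (ZMod 3) (Cfsg.quadFormOdd m (ZMod 3)))) := by
  have hF := Cfsg.Agent.Fischer480.AllPieces.fgroup hna hD
  have R := Cfsg.Agent.Fischer891.Cases.rk_of_fgroup hF
  obtain ⟨x, hx⟩ := R.fd.nonempty
  have hx2 : orderOf x = 2 := by
    rw [orderOf_eq_prime_iff]
    exact ⟨by rw [pow_two]; exact R.fd.sq x hx, R.fd.ne_one x hx⟩
  have hC := Cfsg.Agent.Omega.Exits.char2_centralizer h2 hx2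
  rcases Cfsg.Agent.Fischer480.AllPieces.inList hF with
    ⟨n, hn, h⟩ | ⟨n, hn, h⟩ | ⟨n, hn, h⟩ | ⟨n, hn, h⟩ | ⟨n, hn, h⟩ | h | h | h
  · exact (Cfsg.Agent.Fischer891.FinalSym.not_simple_of_isSym R hn h).elim
  · exact Or.inl (Cfsg.Agent.Fischer891.FinalSp.exists_equiv_of_isSp R h)
  · exact (Cfsg.Agent.Fischer891.FinalO.not_simple_of_isO R hn h).elim
  · exact Or.inr (Or.inl (Cfsg.Agent.Fischer919.FinalU.psu_of_isU hna hF hn h))
  · exact Or.inr (Or.inr (Cfsg.Agent.Fischer919.OmegaMain.pomega_of_isR hna hF hn h))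
  · exact (Cfsg.Agent.TSpIso.CharTwo.not_charTwo_six ⟨R.fd, hF.sol, hF.perf⟩
      ⟨h.1, h.2.1, h.2.2⟩ hx hC).elim
  · exact (Cfsg.Agent.TSpIso.CharTwo.not_charTwo_seven ⟨R.fd, hF.sol, hF.perf⟩
      ⟨h.1, fun x hx => ⟨(h.2.1 x hx).1, (h.2.1 x hx).2.1, (h.2.1 x hx).2.2⟩, h.2.2⟩ hx hC).elim
  · exact (Cfsg.Agent.Fischer545.TEight.not_simple hD h inferInstance).elim

open Cfsg.Agent.Omega.Exits in
/-- the groups of the list of order divisible by 32 are known -/
theorem known_list [Finite G] [IsSimpleGroup G] (hna : ¬ IsMulCommutative G) (h32 : 32 ∣ Nat.card G)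
    (h : (∃ n : ℕ, Nonempty (G ≃* Matrix.symplecticGroup (Fin n) (ZMod 2))) ∨
      (∃ (F : Type) (_ : Field F) (_ : Fintype F) (n : ℕ), Fintype.card F = 4 ∧ Nonempty (G ≃* Cfsg.PSU n F 2)) ∨
      (∃ m : ℕ, Nonempty (G ≃* Cfsg.POmega (ZMod 3) (Cfsg.quadFormOdd m (ZMod 3))))) :
    IsKnownSimple' G := by
  have hZ := center_eq_bot hna
  rcases h with ⟨n, ⟨e⟩⟩ | ⟨F, i, j, n, hF, ⟨e⟩⟩ | ⟨m, ⟨e⟩⟩
  · have hc : Nat.card G = 2 ^ (n ^ 2) * ∏ i ∈ Finset.range n, (2 ^ (2 * (i + 1)) - 1) := by
      rw [Nat.card_congr e.toEquiv, LieClassical.SympCount.card_symplecticGroup, ZMod.card]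
    rcases Nat.lt_or_ge n 3 with hn | hn
    · exfalso
      interval_cases n
      · rw [hc] at h32
        exact absurd h32 (by decide)
      · rw [hc] at h32
        simp at h32
      · rw [hc] at h32
        simp [Finset.prod_range_succ] at h32
    · exact known_sp hn (quot_center e hZ)
  · rcases Nat.lt_or_ge n 4 with hn | hn
    · exfalso
      have h4 : Fintype.card F = 2 ^ 2 := by rw [hF]; norm_num
      rcases Nat.lt_or_ge n 2 with hn2 | hn2
      · have : Subsingleton (Matrix.SpecialLinearGroup (Fin n) F) := by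
          have : Subsingleton (Fin n) := by
            interval_cases n <;> infer_instance
          infer_instance
        have h5 : Nat.card G = 1 := by
          rw [Nat.card_congr e.toEquiv]
          have : Subsingleton (Cfsg.SU n F 2) := inferInstance
          have : Subsingleton (Cfsg.PSU n F 2) := Quotient.instSubsingletonQuotient _
          exact Nat.card_unique
        rw [h5] at h32
        omega
      · have h5 := Cfsg.Agent.S0280.result h4 n hn2
        rw [← Nat.card_congr e.toEquiv] at h5
        interval_cases n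
        · simp [Finset.prod_range_succ] at h5
          omega
        · simp [Finset.prod_range_succ] at h5
          omega
    · exact known_u hn (by rw [hF]; norm_num) ⟨e⟩
  · rcases Nat.lt_or_ge m 3 with hm | hm
    · interval_cases m
      · exfalso
        have hcomm : ∀ a b : Cfsg.isometryGroup (ZMod 3) (Cfsg.quadFormOdd 0 (ZMod 3)), a * b = b * a := by
          intro a b
          apply Subtype.ext
          apply Units.ext
          ext i j
          have hu : ∀ x y : Unit ⊕ (Fin 0 ⊕ Fin 0), x = y := by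
            rintro (x | x | x) (y | y | y)
            · rfl
            all_goals first | exact x.elim0 | exact y.elim0
          have : Unique (Unit ⊕ (Fin 0 ⊕ Fin 0)) := ⟨⟨Sum.inl ()⟩, fun x => hu x _⟩
          simp only [Subgroup.coe_mul, Units.val_mul, Matrix.mul_apply]
          rw [hu i j]
          apply Finset.sum_congr rfl
          intro k _
          rw [hu k j, mul_comm]
        have h1 : Cfsg.Omega (ZMod 3) (Cfsg.quadFormOdd 0 (ZMod 3)) = ⊥ := by
          rw [Cfsg.Omega, commutator_def, Subgroup.commutator_eq_bot_iff_le_centralizer]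
          intro a _
          rw [mem_centralizer_iff]
          intro b _
          exact hcomm b a
        have : Subsingleton ↥(Cfsg.Omega (ZMod 3) (Cfsg.quadFormOdd 0 (ZMod 3))) := by
          rw [h1]
          infer_instance
        have h5 : Nat.card G = 1 := by
          rw [Nat.card_congr e.toEquiv]
          have : Subsingleton (Cfsg.POmega (ZMod 3) (Cfsg.quadFormOdd 0 (ZMod 3))) :=
            Quotient.instSubsingletonQuotient _
          exact Nat.card_unique
        rw [h5] at h32
        omega
      · exfalso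
        obtain ⟨f⟩ := Cfsg.Agent.S0298.result (F := ZMod 3) (by rw [ZMod.card]; decide)
        have h1 : Nat.card G ∣ 48 := by
          rw [Nat.card_congr (e.trans f).toEquiv]
          exact card_psl2_three
        have h2 := h32.trans h1
        omega
      · obtain ⟨f⟩ := Cfsg.Agent.S0301.result (F := ZMod 3) (by rw [ZMod.card]; decide)
        exact known_sp4 (by rw [ZMod.card]) ⟨e.trans f⟩
    · exact known_poOdd ⟨ZMod 3, _, _, m, hm, by rw [ZMod.card]; decide, ⟨e⟩⟩

/-- **The exit S0480 in characteristic 2 type**, sectional 2-rank at least 5 (only `32 ∣ |G|` is used). -/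
theorem known_of_dvd [Finite G] [IsSimpleGroup G] (hna : ¬ IsMulCommutative G) (h32 : 32 ∣ Nat.card G)
    (h2 : IsCharacteristicTwoType G) {D : Set G} (hD : Cfsg.IsThreeTranspositionClass D) : IsKnownSimple' G := by
  refine known_list hna h32 (list ?_ hD h2)
  by_contra hcon
  push Not at hcon
  exact hna ⟨⟨hcon⟩⟩

open Cfsg.Agent.Omega.Frame Cfsg.Agent.Omega.Exits in
/-- **The exit "3-transpositions".** -/
theorem known [Finite G] (c : Ctx G) {D : Set G} (hD : IsThreeTranspositionClass D) : IsKnownSimple' G := by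
  have := c.simple
  exact known_of_dvd c.nonComm (dvd_card c.rank) c.char2 hD

end Cfsg.Agent.Omega.Close.ThreeTrans
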