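import Cfsg.Agent.Omega.Close.Base

/-!
# OMEGA: the closings as one interface (3): systems of parabolic subgroups, rank at least three

* `par` : THEOREM PAR (`ParSys.Sys`), `free` : THEOREM FREE (`ParSys.Free.Sys`);
* `gen` : for a `T`-based system (members of `L(S)` normalise `⟨P i⟩`) the field `gen` is automatic.
-/

set_option autoImplicit false

namespace Cfsg.Agent.Omega.Close.Sys

open Subgroup Cfsg Cfsg.Agent.ZN Cfsg.Agent.Omega.MinPar Cfsg.Agent.Omega.Frame
open Cfsg.Agent.Omega.Exits (St1143 St1144 known_lie)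
open Cfsg.Agent.Omega.Close.Base

universe u

variable {G : Type u} [Group G] [Finite G]

/-- **(TB1)**: the field `gen` of a system which is normalised by all members of `L(S)`. -/
theorem gen (hG : Ctx G) {S : Sylow 2 G} (hF : Full (S : Subgroup G)) {I : Type*} {P : I → Subgroup G}
    (hne : ∃ i, P i ≠ ⊥)
    (h : ∀ L : Subgroup G, IsLoc (S : Subgroup G) L → L ≤ normalizer ((⨆ i, P i : Subgroup G) : Set G)) :
    ⨆ i, P i = ⊤ := by
  refine eq_top_of_norm hG hF ?_ h
  obtain ⟨i, hi⟩ := hne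
  intro h0
  exact hi (le_bot_iff.mp (h0 ▸ le_iSup P i))

/-- **THEOREM PAR**, rank at least 3. -/
theorem par (h43 : St1143.{u}) [IsSimpleGroup G] {I : Type*} [Finite I] {p : ℕ} [Fact p.Prime]
    {B U H : Subgroup G} {P : I → Subgroup G} {m : I → I → ℕ}
    (s : ParSys.Sys p B U H P m) (h3 : 3 ≤ Nat.card I)
    (hconn : ∀ J : Set I, J.Nonempty → Jᶜ.Nonempty → ∃ i ∈ J, ∃ j ∈ Jᶜ, 3 ≤ m i j) :
    IsKnownSimple' G := by
  obtain ⟨Q, -, hr, hi⟩ := s.exists_bnPair
  exact known_lie (h43 G Q (hr ▸ h3) (hi hconn))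

/-- **THEOREM FREE**, rank at least 3. -/
theorem free (h43 : St1143.{u}) [IsSimpleGroup G] {I : Type*} [Finite I] {M : CoxeterMatrix I}
    {W : Type*} [Group W] [Finite W] {cs : CoxeterSystem M W} {B : Subgroup G} {P : I → Subgroup G}
    {U : Subgroup G} {q : I → ℕ} (s : ParSys.Free.Sys cs B P U q) {F : List I} (hF : cs.IsReduced F)
    (hw : cs.wordProd F = Tits.Core.w0 cs) (hcard : Nat.card U = (F.map q).prod)
    (h3 : 3 ≤ Nat.card I)
    (hconn : ∀ J : Set I, J.Nonempty → Jᶜ.Nonempty → ∃ i ∈ J, ∃ j ∈ Jᶜ, M i j ≠ 2) :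
    IsKnownSimple' G := by
  obtain ⟨Q, -, hr, -, hi⟩ := s.exists_bnPair hF hw hcard
  exact known_lie (h43 G Q (hr ▸ h3) (hi hconn))

end Cfsg.Agent.Omega.Close.Sys
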