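import Cfsg.Agent.Omega.Close.RankTwo
import Cfsg.Agent.Omega.Close.Sys
import Cfsg.Agent.Omega.Close.Control
import Cfsg.Agent.Omega.Close.LThree
import Cfsg.Agent.Omega.Lin.Close
import Cfsg.Agent.Omega.Outputs

/-!
# OMEGA: the closings as one interface: local data ⟹ `IsKnownSimple' G`

`Inp` : the quoted statements (all landed; `Close/Landed.lean` : `inp : Inp`).  Every closing is a method
of `Inp`.  `Ctx G`, `Full S` are those of `Omega/Frame.lean`; `Nrm S X` : all members of `L(S)` normalise `X`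
(then `X = G` if `X ≠ 1`, so no leaf has to prove `⟨P₁, P₂⟩ = G`); `Ctl S z Y` : `C_G(z) ≤ Y` and `Y` controls
the fusion of `z` (THEOREM SE).

| type | local data | where | state |
|---|---|---|---|
| any, rank ≥ 1 | `BN2 X` (split BN-pair of `X`), `Nrm S X` | `Inp.bn2` | landed |
| any, rank ≥ 3 | `BN3 X` (irreducible BN-pair), `Nrm S X` | `Inp.bn3` | landed |
| any | `BN2 X` or `BN3 X`, `Ctl S z (N_G(X))` | `Inp.bn2_ctl`, `Inp.bn3_ctl` | landed |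
| `L₂`, `Sz`, `U₃` | a strongly embedded subgroup | `Inp.se` | landed |
| rank 2 | `RankTwoClose.Frame`, `Braid m`, `PathTo` | `Inp.frame` | landed (139, 559) |
| `L₃(q)`, `Sp₄(q)`, `q ≥ 4` | `Co3`, `Co4`; `FFOne.Mut` and two natural modules | `Inp.co3`, `Inp.co4`, `Inp.nat_pair` | landed (248, 46, 447, 67) |
| `G₂(q)`, `³D₄(q)`, `q > 4` | `Hex`, `Glob`; `Hex.KIn.gZero`, `SQEnd.gZero` | `Inp.hex` | landed (195, 951, 326, 392, 688) |
| `G₂(4)` | `Hex .. 4 4`, `Four` | `GTwoFour.close` | landed (352, 468) |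
| `U₄(q)`, `q ≥ 4` | `UFour.Data`; `UFour.known_of_model` | `Inp.u4` | landed (943, 543) |
| `U₅(q)`, `q ≥ 4` | `Quad.QData`; `QInput.QIn.exists_split` | `Inp.quad`, `Inp.bn2` | landed (870, 534) |
| `²F₄(q)`, `q ≥ 8` | `TwoFFour.Sit`: `Sit.bn2`, `Sit.known_of_par` | `TwoFFour.Known` | landed (279, 606, 452, 792) |
| `²F₄(2)'` | `TitsFin.FinHyp z p` | `TitsIso.MainIso.known` | landed (303, 55, 812, 786) |
| rank ≥ 3 | `ParSys.Sys`; `ParSys.PSys.exists_bnPair` | `Inp.par` | landed (398, 450, 920, 105) |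
| rank ≥ 3, `|U| = q_{w₀}` | `ParSys.Free.Sys`; `FreeLie.isLie`, `FreeLieLoc.isLie` | `Inp.free` | landed (485, 621) |
| rank ≥ 3, simply laced, `q = 2` | `ParSys.Wt.Main.exists_bnPair` | `Inp.bn3` | landed (344, 270, 173) |
| `L_n(q)` | `A` TI, `C_G(A) ≤ A`, `N_G(A)` transitive on `A#`; `Lin.Out` | `Inp.ti`, `Inp.out` | landed (139, 965, 637) |
| 3-transpositions | a class of 3-transpositions | `Inp.three_trans` | landed (902) |
-/

set_option autoImplicit false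

namespace Cfsg.Agent.Omega.Close.Main

open Subgroup Cfsg Cfsg.Agent.ZN Cfsg.Agent.Omega.MinPar Cfsg.Agent.Omega.Frame
open Cfsg.Agent.Omega.Close.Base Cfsg.Agent.Omega.Close.RankTwo Cfsg.Agent.Omega.Close.Control
open Cfsg.Agent.WeakTI.ReduceComponent (Red)
open Cfsg.Agent.WeakTI.ReduceMain (InList)

universe u

/-- **The quoted statements.** All are landed. -/
structure Inp : Prop extends Outputs.Lib.{u} where
  /-- `StrongEmb.Main.bender` -/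
  holds : Omega.RootLemma.Bender.{u}
  /-- the theorem behind S1179 (`WeakTI.Final.main`, `S1175`) -/
  ti1179 : ∀ (G : Type u) [Group G] [Finite G] (A : Subgroup G), Red A → InList G
  /-- `Close.ThreeTrans.known` -/
  three : ∀ (G : Type u) [Group G] [Finite G], Ctx G → ∀ D : Set G, IsThreeTranspositionClass D → IsKnownSimple' G
  /-- S1169, S1171, S1296 -/
  tl3 : LThree.TL3.{u}

namespace Inp

variable (I : Inp.{u}) {G : Type u} [Group G] [Finite G]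

include I

/-! ### BN-pairs -/

theorem bn2 (hG : Ctx G) {S : Sylow 2 G} (hF : Full (S : Subgroup G)) {X : Subgroup G} (hX : BN2 X)
    (h : Nrm (S : Subgroup G) X) : IsKnownSimple' G := Base.known_of_bn2 I.s1144 hG hF hX h

theorem bn3 (hG : Ctx G) {S : Sylow 2 G} (hF : Full (S : Subgroup G)) {X : Subgroup G} (hX : BN3 X)
    (h : Nrm (S : Subgroup G) X) : IsKnownSimple' G := Base.known_of_bn3 I.s1143 hG hF hX h

theorem bn2_ctl (hG : Ctx G) (S : Sylow 2 G) {z : G} {X : Subgroup G} (hX : BN2 X)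
    (h : Ctl (S : Subgroup G) z (normalizer (X : Set G))) : IsKnownSimple' G :=
  Control.known_of_bn2 I.s1144 I.bender hG S hX h

theorem bn3_ctl (hG : Ctx G) (S : Sylow 2 G) {z : G} {X : Subgroup G} (hX : BN3 X)
    (h : Ctl (S : Subgroup G) z (normalizer (X : Set G))) : IsKnownSimple' G :=
  Control.known_of_bn3 I.s1143 I.bender hG S hX h

/-! ### Strongly embedded subgroups -/

theorem se (hG : Ctx G) {H : Subgroup G} (hH : IsStronglyEmbedded H) : IsKnownSimple' G := by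
  have := hG.simple
  exact known_of_stronglyEmbedded I.bender hG.nonComm hH

/-- THEOREM SE. -/
theorem ctl (hG : Ctx G) (S : Sylow 2 G) {z : G} {Y : Subgroup G} (h : Ctl (S : Subgroup G) z Y) :
    Y = ⊤ ∨ IsKnownSimple' G := Control.top_or_known I.bender hG S h

/-! ### Rank two -/

/-- **R2T.** -/
theorem frame (hG : Ctx G) {S : Sylow 2 G} (hF : Full (S : Subgroup G))
    (F : RankTwoClose.Frame G) {m : ℕ} (hbr : F.Braid m) (hm : 1 ≤ m) (hp : ∀ k < m, F.PathTo k)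
    (thick : ∀ i, ∃ b ∈ F.B, F.n i * b * (F.n i)⁻¹ ∉ F.B)
    (U : Subgroup G) (hU : U ≤ F.B) (hn : ∀ b ∈ F.B, ∀ u ∈ U, b * u * b⁻¹ ∈ U)
    (hnil : Group.IsNilpotent U)
    (hUH : ∀ b ∈ F.B, ∃ u ∈ U, u⁻¹ * b ∈ Subgroup.normalizer (F.H : Set G))
    (h : Nrm (S : Subgroup G) (F.P false ⊔ F.P true)) : IsKnownSimple' G :=
  RankTwo.frame I.s1144 hG hF F hbr hm hp thick U hU hn hnil hUH h

/-- **Types `G₂(q)`, `³D₄(q)`.** -/
theorem hex (hG : Ctx G) {S : Sylow 2 G} (hF : Full (S : Subgroup G))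
    {P₁ P₂ B U H V R W Y D : Subgroup G} {n₁ n₂ : G} {q r : ℕ}
    (x : Hex.Hex P₁ P₂ B U H V R W Y D n₁ n₂ q r) (g : Hex.Glob H R)
    (h : Nrm (S : Subgroup G) (P₁ ⊔ P₂)) : IsKnownSimple' G :=
  RankTwo.hex I.s1144 I.holds hG hF x g h

/-- **Type `U₄(q)`.** `S₀` is a Sylow 2-subgroup (of `X`), `z₀` a central involution in `Z`. -/
theorem u4 (hG : Ctx G) {S S₀ : Sylow 2 G} (hF : Full (S : Subgroup G))
    {V U Z Y L1 L2 Q H A0 : Subgroup G} {n1 n2 z₀ : G}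
    (D : RankTwoClose.UFour.Data (S₀ : Subgroup G) V U Z Y L1 L2 Q H A0 n1 n2)
    (hz : z₀ ∈ Z) (hz1 : z₀ ≠ 1) (hzS : ∀ s ∈ (S₀ : Subgroup G), s * z₀ = z₀ * s)
    (h : Nrm (S : Subgroup G) ((L1 ⊔ H) ⊔ (L2 ⊔ H))) : IsKnownSimple' G :=
  RankTwo.u4 I.s1144 I.holds hG hF D hz hz1 hzS h

/-- **Type `U₅(q)`.** -/
theorem quad (hG : Ctx G) {S : Sylow 2 G} (hF : Full (S : Subgroup G))
    {L1 L2 U Q1 Q2 Z Y D H A : Subgroup G} {n1 n2 z₀ w : G}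
    (d : RankTwoClose.Quad.QData S L1 L2 U Q1 Q2 Z Y D H A n1 n2 z₀ w)
    (h : Nrm (S : Subgroup G) ((L1 ⊔ H) ⊔ (L2 ⊔ H))) : IsKnownSimple' G :=
  RankTwo.quad I.s1144 I.holds hG hF d h

/-! ### Rank at least three -/

/-- **THEOREM PAR.** -/
theorem par (hG : Ctx G) {ι : Type*} [Finite ι] {p : ℕ} [Fact p.Prime]
    {B U H : Subgroup G} {P : ι → Subgroup G} {m : ι → ι → ℕ}
    (s : ParSys.Sys p B U H P m) (h3 : 3 ≤ Nat.card ι)
    (hconn : ∀ J : Set ι, J.Nonempty → Jᶜ.Nonempty → ∃ i ∈ J, ∃ j ∈ Jᶜ, 3 ≤ m i j) :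
    IsKnownSimple' G := by
  have := hG.simple
  exact Sys.par I.s1143 s h3 hconn

/-- **THEOREM FREE.** -/
theorem free (hG : Ctx G) {ι : Type*} [Finite ι] {M : CoxeterMatrix ι}
    {W : Type*} [Group W] [Finite W] {cs : CoxeterSystem M W} {B : Subgroup G} {P : ι → Subgroup G}
    {U : Subgroup G} {q : ι → ℕ} (s : ParSys.Free.Sys cs B P U q) {F : List ι} (hF : cs.IsReduced F)
    (hw : cs.wordProd F = Tits.Core.w0 cs) (hcard : Nat.card U = (F.map q).prod)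
    (h3 : 3 ≤ Nat.card ι)
    (hconn : ∀ J : Set ι, J.Nonempty → Jᶜ.Nonempty → ∃ i ∈ J, ∃ j ∈ Jᶜ, M i j ≠ 2) :
    IsKnownSimple' G := by
  have := hG.simple
  exact Sys.free I.s1143 s hF hw hcard h3 hconn

/-! ### TI subgroups, 3-transpositions -/

/-- **LEMMA TI** (S1179). -/
theorem ti (hG : Ctx G) {A : Subgroup G} (hA : Cfsg.IsElementaryAbelian 2 A)
    (hcent : centralizer (A : Set G) ≤ A)
    (htrans : ∀ x ∈ A, ∀ y ∈ A, x ≠ 1 → y ≠ 1 → ∃ n ∈ normalizer (A : Set G), n * x * n⁻¹ = y)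
    {a : G} (haA : a ∈ A) (ha : a ≠ 1) (hca : centralizer ({a} : Set G) ≤ normalizer (A : Set G)) :
    IsKnownSimple' G := by
  have := hG.simple
  exact TIClose.known_of_trans (I.ti1179 G) hG.nonComm hA hcent htrans haA ha hca

/-- **The linear case** (THEOREM A2, `Lin.Out`). -/
theorem out (hG : Ctx G) {F : Type*} [Field F] [Finite F] [CharP F 2] {k : ℕ} {W₁ W₂ L₁ L₂ R Q : Subgroup G}
    (X : Lin.Out F k W₁ W₂ L₁ L₂ R Q) (hk : 1 ≤ k) (hg : Lin.Out.Good F k) {S : Sylow 2 G}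
    (hS : (S : Subgroup G) ≤ normalizer (R : Set G)) : IsKnownSimple' G := by
  have := hG.simple
  exact Lin.Out.known_of_type (I.ti1179 G) hG.nonComm hG.char2 X hk hg hS

/-- 3-transpositions. -/
theorem three_trans (hG : Ctx G) {D : Set G} (hD : IsThreeTranspositionClass D) : IsKnownSimple' G :=
  I.three G hG D hD

/-! ### Types `L₃(q)`, `Sp₄(q)` -/

/-- **Type `L₃(q)`, `q ≥ 4`**: `S = Q₁Q₂`, or `q = 4` (then the sectional 2-rank is 4). -/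
theorem co3 (hG : Ctx G) {F : Type*} [Field F] [Finite F] [CharP F 2] {Q₁ Q₂ D S0 : Subgroup G}
    {x y z : G → F} (hq : 4 ≤ Nat.card F) (h : CloseA.Co3 Q₁ Q₂ D x y z) (S : Sylow 2 G)
    (c : CloseA.Ctx (S : Subgroup G) S0 D Q₁ Q₂) (hS : (S : Subgroup G) = Q₁ ⊔ Q₂ ∨ Nat.card F = 4) :
    IsKnownSimple' G := LThree.co3 I.tl3 hG hq h S c hS

/-- **Type `Sp₄(q)`, `q ≥ 4`**: `S = Q₁Q₂`. -/
theorem co4 (hG : Ctx G) {F : Type*} [Field F] [Finite F] [CharP F 2] {Q₁ Q₂ D C₁ C₂ : Subgroup G}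
    {x y z z' : G → F} (hq : 4 ≤ Nat.card F) (h : CloseA.Co4 Q₁ Q₂ D C₁ C₂ x y z z') (S : Sylow 2 G)
    (hS : (S : Subgroup G) = Q₁ ⊔ Q₂) : IsKnownSimple' G := LThree.co4 I.tl3 hG hq h S hS

/-- **Two quadratic natural modules, `q ≥ 4`** (the hypotheses of `FFOne.Mut.exit`). -/
theorem nat_pair (hG : Ctx G) {P₁ P₂ Q₁ Q₂ V₁ V₂ D₁ D₂ : Subgroup G} {a : ℕ}
    {F₁ F₂ : Type} [Field F₁] [Finite F₁] [CharP F₁ 2] [Field F₂] [Finite F₂]
    {e₁ : G → Fin 2 → F₁} {w₁ : Fin 2 → F₁} {e₂ : G → Fin 2 → F₂} {w₂ : Fin 2 → F₂}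
    {S : Sylow 2 G} (h : FFOne.Mut P₁ P₂ S Q₁ Q₂ V₁ V₂ a)
    (hcen₁ : ∀ g : G, (∀ u ∈ Q₁, g * u = u * g) → g ∈ Q₁) (hcen₂ : ∀ g : G, (∀ u ∈ Q₂, g * u = u * g) → g ∈ Q₂)
    (n₁ : FFOne.NatTwo P₁ V₁ D₁ e₁) (q₁ : FFOne.QuadOver V₁ V₂ e₁ w₁) (DV₁ : D₁ ≤ V₁)
    (Dn₁ : ∀ p ∈ P₁, ∀ d ∈ D₁, p * d * p⁻¹ ∈ D₁)
    (n₂ : FFOne.NatTwo P₂ V₂ D₂ e₂) (q₂ : FFOne.QuadOver V₂ V₁ e₂ w₂) (DV₂ : D₂ ≤ V₂)
    (Dn₂ : ∀ p ∈ P₂, ∀ d ∈ D₂, p * d * p⁻¹ ∈ D₂) (hF : 4 ≤ Nat.card F₁) : IsKnownSimple' G :=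
  LThree.nat_pair I.tl3 hG h hcen₁ hcen₂ n₁ q₁ DV₁ Dn₁ n₂ q₂ DV₂ Dn₂ hF

end Inp

end Cfsg.Agent.Omega.Close.Main
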