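import Cfsg.Agent.Omega.Close.Base
import Cfsg.Agent.Omega.Hex.Close
import Cfsg.Agent.Omega.Hex.PathTo
import Cfsg.Agent.RankTwoClose.UFour.Close
import Cfsg.Agent.RankTwoClose.Quad

/-!
# OMEGA: the closings as one interface (2): rank two

Every theorem has the shape: local data of a pair of parabolic subgroups with join `X`, every member of
`L(S)` normalises `X` ⟹ `IsKnownSimple' G`.

* `frame` : THEOREM R2T (`RankTwoClose.Frame`, a braid relation, `PathTo`), all types;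
* `hex` : types `G₂(q)`, `³D₄(q)` (`Hex`, `Glob`);
* `u4` : type `U₄(q)` (`UFour.Data`);
* `quad` : quadrangles with a central parabolic subgroup, in particular type `U₅(q)` (`Quad.QData`).
-/

set_option autoImplicit false

namespace Cfsg.Agent.Omega.Close.RankTwo

open Subgroup Cfsg Cfsg.Agent.ZN Cfsg.Agent.Omega.MinPar Cfsg.Agent.Omega.Frame
open Cfsg.Agent.Omega.Exits (St1143 St1144)
open Cfsg.Agent.Omega.Close.Base
open Cfsg.Agent.MinSimple.MinParabolic Cfsg.Agent.MinSimple.VModule Cfsg.Agent.MinSimple.Basic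

universe u

variable {G : Type u} [Group G] [Finite G]

/-- `X` is normalised by all members of `L(S)`. -/
def Nrm (S X : Subgroup G) : Prop := ∀ L : Subgroup G, IsLoc S L → L ≤ normalizer (X : Set G)

/-- `Nrm S X` from `N_G(S)` and the minimal parabolic subgroups. -/
theorem nrm_of_par {S : Sylow 2 G} {X : Subgroup G}
    (hN : normalizer ((S : Subgroup G) : Set G) ≤ normalizer (X : Set G))
    (hP : ∀ P : Subgroup G, IsPar (S : Subgroup G) P → P ≤ normalizer (X : Set G)) :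
    Nrm (S : Subgroup G) X :=
  fun _ hL => hL.le_of_forall S (inf_le_right.trans hN) fun P hPp _ => hP P hPp

/-- **R2T**: a frame in `G` with a braid relation of length `m`. -/
theorem frame (h44 : St1144.{u}) (hG : Ctx G) {S : Sylow 2 G} (hF : Full (S : Subgroup G))
    (F : RankTwoClose.Frame G) {m : ℕ} (hbr : F.Braid m) (hm : 1 ≤ m) (hp : ∀ k < m, F.PathTo k)
    (thick : ∀ i, ∃ b ∈ F.B, F.n i * b * (F.n i)⁻¹ ∉ F.B)
    (U : Subgroup G) (hU : U ≤ F.B) (hn : ∀ b ∈ F.B, ∀ u ∈ U, b * u * b⁻¹ ∈ U)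
    (hnil : Group.IsNilpotent U)
    (hUH : ∀ b ∈ F.B, ∃ u ∈ U, u⁻¹ * b ∈ Subgroup.normalizer (F.H : Set G))
    (h : Nrm (S : Subgroup G) (F.P false ⊔ F.P true)) : IsKnownSimple' G := by
  obtain ⟨Q, hr, hs, -⟩ := F.exists_split_sup hbr hm hp thick U hU hn hnil hUH rfl
  exact known_of_bn2 h44 hG hF ⟨Q, by omega, hs⟩ h

/-- **Types `G₂(q)`, `³D₄(q)`.** -/
theorem hex (h44 : St1144.{u}) (hB : Omega.RootLemma.Bender.{u}) (hG : Ctx G) {S : Sylow 2 G}
    (hF : Full (S : Subgroup G)) {P₁ P₂ B U H V R W Y D : Subgroup G} {n₁ n₂ : G} {q r : ℕ}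
    (x : Hex.Hex P₁ P₂ B U H V R W Y D n₁ n₂ q r) (g : Hex.Glob H R)
    (h : Nrm (S : Subgroup G) (P₁ ⊔ P₂)) : IsKnownSimple' G := by
  obtain ⟨Q, hr, hs, -⟩ := Hex.exists_split x g hB x.pathTo rfl
  exact known_of_bn2 h44 hG hF ⟨Q, by omega, hs⟩ h

omit [Finite G] in
/-- `O₂(C_G(z))` controls `C_G(z)` in a group of characteristic 2 type. -/
theorem core (hG : IsCharacteristicTwoType G) {z : G} (hz : z ^ 2 = 1) (hz1 : z ≠ 1) :
    RankTwoClose.UFour.Data.Core (o2 (centralizer ({z} : Set G))) z where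
  norm _ hx := le_normalizer_o2 _ (mem_centralizer_singleton_iff.mpr hx)
  self _ hx h := char2_centralizer hG hz hz1
    ⟨mem_centralizer_singleton_iff.mpr hx, mem_centralizer_iff.mpr fun r hr => (h r hr).symm⟩
  max _ hR hR1 hR2 := le_o2 (fun r hr => mem_centralizer_singleton_iff.mpr (hR1 r hr)) hR
    fun x hx => hR2 x (mem_centralizer_singleton_iff.mp hx)

/-- **Type `U₄(q)`.** `S₀` is a Sylow 2-subgroup, `z₀` a central involution in `Z`. -/
theorem u4 (h44 : St1144.{u}) (hB : Omega.RootLemma.Bender.{u}) (hG : Ctx G) {S S₀ : Sylow 2 G}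
    (hF : Full (S : Subgroup G)) {V U Z Y L1 L2 Q H A0 : Subgroup G} {n1 n2 z₀ : G}
    (D : RankTwoClose.UFour.Data (S₀ : Subgroup G) V U Z Y L1 L2 Q H A0 n1 n2)
    (hz : z₀ ∈ Z) (hz1 : z₀ ≠ 1) (hzS : ∀ s ∈ (S₀ : Subgroup G), s * z₀ = z₀ * s)
    (h : Nrm (S : Subgroup G) ((L1 ⊔ H) ⊔ (L2 ⊔ H))) : IsKnownSimple' G := by
  obtain ⟨P, hr, hs, -⟩ := D.exists_split hB (D.core_forall hz hz1
    (fun P hP hle => (S₀.is_maximal' hP hle).le) hzS
    ⟨_, o2_isPGroup _, core hG.char2 ((sq z₀).trans (D.sqV _ ((D.memZ _).1 hz).1)) hz1⟩) rfl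
  exact known_of_bn2 h44 hG hF ⟨P, by omega, hs⟩ h

/-- **Quadrangles with a central parabolic subgroup (type `U₅(q)`).** -/
theorem quad (h44 : St1144.{u}) (hB : Omega.RootLemma.Bender.{u}) (hG : Ctx G) {S : Sylow 2 G}
    (hF : Full (S : Subgroup G)) {L1 L2 U Q1 Q2 Z Y D H A : Subgroup G} {n1 n2 z₀ w : G}
    (d : RankTwoClose.Quad.QData S L1 L2 U Q1 Q2 Z Y D H A n1 n2 z₀ w)
    (h : Nrm (S : Subgroup G) ((L1 ⊔ H) ⊔ (L2 ⊔ H))) : IsKnownSimple' G := by
  obtain ⟨P, hr, hs, -⟩ := d.exists_split hB rfl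
  exact known_of_bn2 h44 hG hF ⟨P, by omega, hs⟩ h

end Cfsg.Agent.Omega.Close.RankTwo
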